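import Mathlib

/-!
Inequalities between the numbers `1 + q + ⋯ + q ^ (d - 1)`.
-/

set_option autoImplicit false

namespace Cfsg.Agent.AutPSLOrder

/-- `1 + q + ⋯ + q ^ (d - 1)`. -/
def geom (q : ℕ) : ℕ → ℕ
  | 0 => 0
  | d + 1 => q * geom q d + 1

theorem geom_spec {q : ℕ} (hq : 1 ≤ q) : ∀ d, (q - 1) * geom q d + 1 = q ^ d
  | 0 => by simp [geom]
  | d + 1 => by
    obtain ⟨a, rfl⟩ : ∃ a, q = a + 1 := ⟨q - 1, by omega⟩
    have h := geom_spec hq d
    rw [Nat.add_sub_cancel] at h ⊢
    rw [pow_succ, ← h, geom]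
    ring

theorem geom_mono {q : ℕ} (hq : 1 ≤ q) {a b : ℕ} (h : a ≤ b) : geom q a ≤ geom q b := by
  induction h with
  | refl => exact le_rfl
  | step _ ih => exact ih.trans (le_add_right (Nat.le_mul_of_pos_left _ hq))

theorem le_geom {q k d : ℕ} (hq : 2 ≤ q) (h : (q - 1) * k ≤ q ^ d - 1) : k ≤ geom q d := by
  rw [← geom_spec (by omega : 1 ≤ q) d, Nat.add_sub_cancel] at h
  exact Nat.le_of_mul_le_mul_left h (by omega)

theorem geom_two (q : ℕ) : geom q 2 = q + 1 := by simp [geom]

theorem geom_three (q : ℕ) : geom q 3 = q * q + q + 1 := by simp [geom, mul_add, add_assoc]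

/-- Comparisons propagate to larger `d`. -/
theorem geom_step {r Q c d : ℕ} (hQ : 2 * r ≤ Q) (hr : 1 ≤ r) (h : c * geom r d ≤ geom Q d) (hd : 1 ≤ d) :
    c * geom r (d + 1) ≤ geom Q (d + 1) := by
  have h1 : 1 ≤ geom r d := by
    obtain ⟨d, rfl⟩ : ∃ e, d = e + 1 := ⟨d - 1, by omega⟩
    simp [geom]
  have hc : c ≤ c * geom r d := Nat.le_mul_of_pos_right _ h1
  have ha : r * (c * geom r d) ≤ r * geom Q d := Nat.mul_le_mul_left _ h
  have hb : 2 * r * geom Q d ≤ Q * geom Q d := Nat.mul_le_mul_right _ hQ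
  have hcd : geom Q d ≤ r * geom Q d := Nat.le_mul_of_pos_left _ hr
  calc c * (r * geom r d + 1) = r * (c * geom r d) + c := by ring
    _ ≤ Q * geom Q d + 1 := by rw [Nat.mul_assoc] at hb; omega
    _ = geom Q (d + 1) := rfl

theorem geom_from {r Q c a : ℕ} (hQ : 2 * r ≤ Q) (hr : 1 ≤ r) (h : c * geom r a ≤ geom Q a) (ha : 1 ≤ a) :
    ∀ d, a ≤ d → c * geom r d ≤ geom Q d := by
  intro d hd
  induction hd with
  | refl => exact h
  | @step b hb ih => exact geom_step hQ hr ih (le_trans ha hb)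

theorem two_mul_le_pow {r e : ℕ} (hr : 2 ≤ r) (he : 2 ≤ e) : 2 * r ≤ r ^ e := by
  calc 2 * r ≤ r * r := Nat.mul_le_mul_right _ hr
    _ = r ^ 2 := (sq r).symm
    _ ≤ r ^ e := Nat.pow_le_pow_right (by omega) he

/-- Field automorphisms lose nothing. -/
theorem geom_field {r e d : ℕ} (hr : 2 ≤ r) (he : 1 ≤ e) (hd : 2 ≤ d) (hex : ¬ (d = 2 ∧ r = 2 ∧ e = 2)) :
    e * geom r d ≤ geom (r ^ e) d := by
  rcases Nat.lt_or_ge e 2 with h1 | h1
  · obtain rfl : e = 1 := by omega
    simp
  have base : ¬ (r = 2 ∧ e = 2) → e * (r + 1) ≤ r ^ e + 1 := by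
    intro hne
    rcases Nat.lt_or_ge r 3 with h2 | h2
    · obtain rfl : r = 2 := by omega
      have : ∀ k, 3 * (k + 3) ≤ 2 ^ (k + 3) + 1 := fun k => by
        induction k with
        | zero => norm_num
        | succ k ih =>
          have : 8 ≤ 2 ^ (k + 3) := le_trans (by norm_num) (Nat.pow_le_pow_right two_pos (by omega : 3 ≤ k + 3))
          rw [show k + 1 + 3 = (k + 3) + 1 by omega, pow_succ]
          omega
      have h3 := this (e - 3)
      rw [show e - 3 + 3 = e by omega] at h3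
      omega
    · have : ∀ k, (k + 2) * (r + 1) ≤ r ^ (k + 2) + 1 := fun k => by
        induction k with
        | zero => rw [zero_add]; nlinarith
        | succ k ih =>
          have h4 : r + 1 ≤ r ^ (k + 2) := by
            have : r ^ 2 ≤ r ^ (k + 2) := Nat.pow_le_pow_right (by omega) (by omega)
            nlinarith
          rw [show k + 1 + 2 = (k + 2) + 1 by omega, pow_succ]
          nlinarith
      have h3 := this (e - 2)
      rwa [show e - 2 + 2 = e by omega] at h3
  by_cases h2 : r = 2 ∧ e = 2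
  · obtain ⟨rfl, rfl⟩ := h2
    refine geom_from (by norm_num) (by norm_num) (by rw [geom_three, geom_three]; norm_num) (by norm_num) d ?_
    omega
  · exact geom_from (two_mul_le_pow hr h1) (by omega) (by rw [geom_two, geom_two]; exact base h2) (by norm_num) d hd

/-- Graph automorphisms times field automorphisms of order at least three. -/
theorem geom_graph_field {r e d : ℕ} (hr : 2 ≤ r) (he : 2 ≤ e) (hd : 3 ≤ d) (hex : e = 2 → 3 ≤ r) :
    2 * e * geom r d ≤ geom (r ^ e) d := by
  refine geom_from (two_mul_le_pow hr he) (by omega) ?_ (by norm_num) d hd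
  rw [geom_three, geom_three]
  rcases Nat.lt_or_ge e 3 with h | h
  · obtain rfl : e = 2 := by omega
    have := hex rfl
    nlinarith [Nat.mul_le_mul this this]
  · have key : ∀ k, 4 * (k + 3) * (r * r) ≤ r ^ (k + 3) * r ^ (k + 3) := fun k => by
      induction k with
      | zero =>
        have h4 : 12 ≤ r * r * (r * r) := le_trans (by norm_num) (Nat.mul_le_mul (Nat.mul_le_mul hr hr) (Nat.mul_le_mul hr hr))
        calc 4 * (0 + 3) * (r * r) ≤ r * r * (r * r) * (r * r) := Nat.mul_le_mul_right _ h4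
          _ = _ := by ring
      | succ k ih =>
        have : 4 * (r ^ (k + 3) * r ^ (k + 3)) ≤ r * r * (r ^ (k + 3) * r ^ (k + 3)) :=
          Nat.mul_le_mul_right _ (Nat.mul_le_mul hr hr)
        rw [show k + 1 + 3 = (k + 3) + 1 by omega, pow_succ r (k + 3)]
        calc 4 * (k + 3 + 1) * (r * r) ≤ 4 * (4 * (k + 3) * (r * r)) := by nlinarith
          _ ≤ _ := le_trans (Nat.mul_le_mul_left 4 ih) (le_trans this (le_of_eq (by ring)))
    have h3 := key (e - 3)
    rw [show e - 3 + 3 = e by omega] at h3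
    have h5 : r + 1 ≤ r * r := by nlinarith
    have h6 : 2 * e * (r * r + r + 1) ≤ 4 * e * (r * r) := by nlinarith
    omega

/-- The weight of the vectors avoiding all nonzero roots. -/
theorem two_mul_pow_lt {a : ℕ} (ha : 2 ≤ a) : 2 * a ^ a < (a + 1) ^ a := by
  have key : ∀ n, a ^ (n + 2) + (n + 2) * a ^ (n + 1) + 1 ≤ (a + 1) ^ (n + 2) := fun n => by
    induction n with
    | zero => simp only [zero_add, pow_one]; nlinarith
    | succ n ih =>
      have h := Nat.mul_le_mul_right (a + 1) ih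
      rw [← pow_succ] at h
      refine le_trans ?_ h
      rw [show n + 1 + 2 = (n + 2) + 1 by omega, show n + 1 + 1 = n + 2 by omega, pow_succ a (n + 2), pow_succ a (n + 1)]
      nlinarith [Nat.zero_le (a ^ (n + 1))]
  have h := key (a - 2)
  rw [show a - 2 + 2 = a by omega, show a - 2 + 1 = a - 1 by omega, ← pow_succ', show a - 1 + 1 = a by omega] at h
  omega

end Cfsg.Agent.AutPSLOrder
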