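import Mathlib

/-!
The units of the algebra generated by one invertible element: a power of it is a scalar, with an exponent bounded
by the number of units modulo the scalars.
-/

set_option autoImplicit false

open Polynomial

namespace Cfsg.Agent.AutPSLOrder

variable {K : Type*} [Field K] [Fintype K] {M : Type*} [Ring M] [Algebra K M]

/-- The subgroup from a multiplicatively closed property of units. -/
def closedSubgroup [Finite M] (P : Mˣ → Prop) (h1 : P 1) (hmul : ∀ {u v}, P u → P v → P (u * v)) :
    Subgroup Mˣ where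
  carrier := {u | P u}
  one_mem' := h1
  mul_mem' := hmul
  inv_mem' {u} hu := by
    have hpow : ∀ k : ℕ, P (u ^ k) := fun k => by
      induction k with
      | zero => simpa using h1
      | succ k ih => rw [pow_succ]; exact hmul ih hu
    have h := pow_orderOf_eq_one u
    obtain ⟨j, hj⟩ : ∃ j, orderOf u = j + 1 := ⟨orderOf u - 1, by have := orderOf_pos u; omega⟩
    rw [hj, pow_succ] at h
    show P u⁻¹
    rw [← eq_inv_of_mul_eq_one_left h]
    exact hpow j

/-- The units which are polynomials in `N`. -/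
def polyUnits [Finite M] (K : Type*) [Field K] [Algebra K M] (N : M) : Subgroup Mˣ :=
  closedSubgroup (fun u => ∃ f : K[X], aeval N f = (u : M)) ⟨1, by simp⟩
    fun ⟨f, hf⟩ ⟨g, hg⟩ => ⟨f * g, by simp [hf, hg]⟩

theorem mem_polyUnits [Finite M] {N : M} {u : Mˣ} :
    u ∈ polyUnits K N ↔ ∃ f : K[X], aeval N f = (u : M) := Iff.rfl

/-- A scalar power with exponent at most the index of the scalars. -/
theorem exists_pow_scalar [Finite M] [Nontrivial M] {U : Subgroup Mˣ} {N : Mˣ} (hN : N ∈ U)
    (hS : (Units.map (algebraMap K M : K →* M)).range ≤ U) :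
    ∃ k, 0 < k ∧ (∃ c : K, ((N : M)) ^ k = algebraMap K M c) ∧ (Fintype.card K - 1) * k ≤ Nat.card U := by
  classical
  set S := (Units.map (algebraMap K M : K →* M)).range with hSdef
  have hinj : Function.Injective (Units.map (algebraMap K M : K →* M)) :=
    Units.map_injective (algebraMap K M).injective
  have hScard : Nat.card S = Fintype.card K - 1 := by
    rw [hSdef, Nat.card_congr (MonoidHom.ofInjective hinj).toEquiv.symm, Nat.card_units, Nat.card_eq_fintype_card]
  have hnorm : ∀ (s : Mˣ), s ∈ S → ∀ u : Mˣ, u * s = s * u := by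
    rintro _ ⟨c, rfl⟩ u
    refine Units.ext ?_
    exact (Algebra.commutes (c : K) (u : M)).symm
  let H : Subgroup U := S.subgroupOf U
  have hH : H.Normal := ⟨fun s hs u => by
    show ((u * s * u⁻¹ : U) : Mˣ) ∈ S
    push_cast
    rw [hnorm (s : Mˣ) hs, mul_inv_cancel_right]
    exact hs⟩
  let n : U := ⟨N, hN⟩
  refine ⟨orderOf (n : U ⧸ H), orderOf_pos _, ?_, ?_⟩
  · have h := pow_orderOf_eq_one (n : U ⧸ H)
    rw [← QuotientGroup.mk_pow, QuotientGroup.eq_one_iff] at h
    obtain ⟨c, hc⟩ := h
    refine ⟨c, ?_⟩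
    have := congrArg Units.val hc
    simpa using this.symm
  · rw [Subgroup.card_eq_card_quotient_mul_card_subgroup H, mul_comm]
    refine Nat.mul_le_mul (orderOf_le_card (x := (n : U ⧸ H))) (le_of_eq ?_)
    rw [← hScard, Nat.card_congr (Subgroup.subgroupOfEquivOfLe hS).toEquiv]

theorem scalar_mem_polyUnits [Finite M] (N : M) :
    (Units.map (algebraMap K M : K →* M)).range ≤ polyUnits K N := by
  rintro _ ⟨c, rfl⟩
  exact ⟨C (c : K), by simp⟩

theorem self_mem_polyUnits [Finite M] (N : Mˣ) : N ∈ polyUnits K (N : M) := ⟨X, by simp⟩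

variable [Finite M] [Nontrivial M] {μ : K[X]} {N : M}

theorem exists_reduced (hμ : μ.Monic) (h0 : aeval N μ = 0) {u : Mˣ} (hu : u ∈ polyUnits K N) :
    ∃ f : degreeLT K μ.natDegree, aeval N (f : K[X]) = (u : M) := by
  obtain ⟨g, hg⟩ := hu
  refine ⟨⟨g %ₘ μ, mem_degreeLT.2 ?_⟩, ?_⟩
  · rw [← degree_eq_natDegree hμ.ne_zero]
    exact degree_modByMonic_lt g hμ
  · have := congrArg (aeval N) (modByMonic_add_div g μ)
    rw [map_add, map_mul, h0, zero_mul, add_zero, hg] at this
    exact this

theorem card_degreeLT (n : ℕ) : Nat.card (degreeLT K n) = Fintype.card K ^ n := by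
  rw [Nat.card_congr (degreeLTEquiv K n).toEquiv, Nat.card_fun, Nat.card_eq_fintype_card, Nat.card_eq_fintype_card,
    Fintype.card_fin]

theorem card_polyUnits_le (hμ : μ.Monic) (h0 : aeval N μ = 0) :
    Nat.card (polyUnits K N) ≤ Fintype.card K ^ μ.natDegree - 1 := by
  classical
  have : Finite (degreeLT K μ.natDegree) := Finite.of_equiv _ (degreeLTEquiv K μ.natDegree).symm.toEquiv
  choose f hf using fun u : polyUnits K N => exists_reduced hμ h0 u.2
  have hne : ∀ u, f u ≠ 0 := fun u e => u.1.ne_zero (by rw [← hf u, e]; simp)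
  have hinj : Function.Injective (fun u => (⟨f u, hne u⟩ : {x : degreeLT K μ.natDegree // x ≠ 0})) :=
    fun u v e => Subtype.ext (Units.ext (by rw [← hf u, ← hf v, show f u = f v from congrArg Subtype.val e]))
  refine le_trans (Nat.card_le_card_of_injective _ hinj) (le_of_eq ?_)
  have : Fintype (degreeLT K μ.natDegree) := Fintype.ofFinite _
  rw [Nat.card_eq_fintype_card, Fintype.card_subtype_compl, Fintype.card_subtype_eq, ← Nat.card_eq_fintype_card,
    card_degreeLT]

/-- A power is a scalar with exponent at most `(q ^ d - 1) / (q - 1)`. -/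
theorem exists_pow_scalar_le {N : Mˣ} (hμ : μ.Monic) (h0 : aeval (N : M) μ = 0) {d : ℕ} (hd : μ.natDegree ≤ d) :
    ∃ k, 0 < k ∧ (∃ c : K, ((N : M)) ^ k = algebraMap K M c) ∧
      (Fintype.card K - 1) * k ≤ Fintype.card K ^ d - 1 := by
  obtain ⟨k, hk, hc, hle⟩ := exists_pow_scalar (self_mem_polyUnits (K := K) N) (scalar_mem_polyUnits _)
  exact ⟨k, hk, hc, hle.trans ((card_polyUnits_le hμ h0).trans
    (Nat.sub_le_sub_right (Nat.pow_le_pow_right Fintype.card_pos hd) 1))⟩

theorem eval_ne_zero_of_unit (hμ : μ = minpoly K N) {f : K[X]} {u : Mˣ} (hf : aeval N f = (u : M)) {a : K}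
    (ha : μ.IsRoot a) : f.eval a ≠ 0 := by
  intro hfa
  obtain ⟨g, hg⟩ := dvd_iff_isRoot.2 ha
  obtain ⟨f', hf'⟩ := dvd_iff_isRoot.2 (show f.IsRoot a from hfa)
  have hz : (u : M) * aeval N g = 0 := by
    rw [← hf, ← map_mul, hf', show (X - C a) * f' * g = f' * μ by rw [hg]; ring, map_mul, hμ, minpoly.aeval,
      mul_zero]
  have hg0 : aeval N g = 0 := by
    rw [← one_mul (aeval N g), ← Units.inv_mul u, mul_assoc, hz, mul_zero]
  have hint : IsIntegral K N := IsIntegral.of_finite K N
  have hgne : g ≠ 0 := fun e => minpoly.ne_zero hint (by rw [← hμ, hg, e, mul_zero])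
  have := minpoly.degree_le_of_ne_zero K N hgne hg0
  rw [← hμ, hg, degree_mul, degree_X_sub_C, degree_eq_natDegree hgne, ← Nat.cast_one, ← Nat.cast_add,
    Nat.cast_le] at this
  omega

/-- If every nonzero scalar is a root, few polynomials give units. -/
theorem card_polyUnits_roots (hμ : μ = minpoly K N) (hroot : ∀ a : K, a ≠ 0 → μ.IsRoot a) :
    Fintype.card K - 1 ≤ μ.natDegree ∧
      Nat.card (polyUnits K N) ≤
        (Fintype.card K - 1) ^ (Fintype.card K - 1) * Fintype.card K ^ (μ.natDegree - (Fintype.card K - 1)) := by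
  classical
  have hint : IsIntegral K N := IsIntegral.of_finite K N
  have hμm : μ.Monic := hμ ▸ minpoly.monic hint
  have hle : Fintype.card K - 1 ≤ μ.natDegree := by
    have hsub : (Finset.univ.erase (0 : K)) ⊆ μ.roots.toFinset := fun a ha => by
      rw [Multiset.mem_toFinset, mem_roots hμm.ne_zero]
      exact hroot a (Finset.mem_erase.1 ha).1
    have := (Finset.card_le_card hsub).trans ((Multiset.toFinset_card_le _).trans (card_roots' μ))
    rwa [Finset.card_erase_of_mem (Finset.mem_univ _), Finset.card_univ] at this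
  refine ⟨hle, ?_⟩
  let ev : degreeLT K μ.natDegree →ₗ[K] ({a : K // a ≠ 0} → K) :=
    LinearMap.pi fun a => (Polynomial.leval a.1).comp (degreeLT K μ.natDegree).subtype
  have hsurj : Function.Surjective ev := by
    intro r
    refine ⟨⟨Lagrange.interpolate (Finset.univ : Finset {a : K // a ≠ 0}) Subtype.val r, mem_degreeLT.2 ?_⟩, ?_⟩
    · refine lt_of_lt_of_le (Lagrange.degree_interpolate_lt _ (Subtype.val_injective.injOn)) ?_
      rw [Finset.card_univ, Fintype.card_subtype_compl, Fintype.card_subtype_eq]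
      exact_mod_cast hle
    · funext a
      exact Lagrange.eval_interpolate_at_node _ (Subtype.val_injective.injOn) (Finset.mem_univ a)
  choose f hf using fun u : polyUnits K N => exists_reduced hμm (by rw [hμ]; exact minpoly.aeval _ _) u.2
  obtain ⟨s, hs⟩ := ev.exists_rightInverse_of_surjective (LinearMap.range_eq_top.2 hsurj)
  have hs' : ∀ r, ev (s r) = r := fun r => LinearMap.congr_fun hs r
  let Φ : polyUnits K N → ({a : K // a ≠ 0} → {b : K // b ≠ 0}) × LinearMap.ker ev := fun u =>
    (fun a => ⟨ev (f u) a, eval_ne_zero_of_unit hμ (hf u) (hroot a.1 a.2)⟩,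
      ⟨f u - s (ev (f u)), by rw [LinearMap.mem_ker, map_sub, hs', sub_self]⟩)
  have hΦ : Function.Injective Φ := by
    intro u v e
    have h1 : ev (f u) = ev (f v) := funext fun a => congrArg Subtype.val (congrFun (congrArg Prod.fst e) a)
    have h2 : f u - s (ev (f u)) = f v - s (ev (f v)) := congrArg Subtype.val (congrArg Prod.snd e)
    rw [h1, sub_left_inj] at h2
    exact Subtype.ext (Units.ext (by rw [← hf u, ← hf v, h2]))
  have : Finite (degreeLT K μ.natDegree) := Finite.of_equiv _ (degreeLTEquiv K μ.natDegree).symm.toEquiv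
  refine le_trans (Nat.card_le_card_of_injective _ hΦ) (le_of_eq ?_)
  have : Module.Finite K (degreeLT K μ.natDegree) := Module.Finite.equiv (degreeLTEquiv K μ.natDegree).symm
  have hdim := LinearMap.finrank_range_add_finrank_ker ev
  rw [LinearMap.range_eq_top.2 hsurj, finrank_top, Module.finrank_fintype_fun_eq_card, Fintype.card_subtype_compl,
    Fintype.card_subtype_eq, LinearEquiv.finrank_eq (degreeLTEquiv K μ.natDegree),
    Module.finrank_fintype_fun_eq_card, Fintype.card_fin] at hdim
  rw [Nat.card_prod, Nat.card_fun, Nat.card_eq_fintype_card, Fintype.card_subtype_compl, Fintype.card_subtype_eq,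
    Module.natCard_eq_pow_finrank (K := K) (V := LinearMap.ker ev), Nat.card_eq_fintype_card]
  congr 2
  omega

end Cfsg.Agent.AutPSLOrder
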