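import Cfsg.Agent.Lib.AutPSL.Group
import Cfsg.Agent.Lib.AutPSLOrder.Arith
import Cfsg.Agent.Lib.AutPSLOrder.Units
import Cfsg.Agent.Lib.GL.ElementOrders

/-!
The largest order of an automorphism of `PSL_d(q)` is `(q ^ d - 1) / (q - 1)`.
-/

set_option autoImplicit false

open Matrix Polynomial
open scoped MatrixGroups

namespace Cfsg.Agent.AutPSLOrder

open Cfsg.Agent.AutPSL

variable {m : ℕ} {F : Type*} [Field F] [Fintype F]

local notation "Mat" => Matrix (Fin (m + 1)) (Fin (m + 1)) F
local notation "GLn" => GL (Fin (m + 1)) F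
local notation "PSLn" => Matrix.ProjectiveSpecialLinearGroup (Fin (m + 1)) F

instance finite_ringAut : Finite (F ≃+* F) := Finite.of_injective (fun e => (e : F → F)) DFunLike.coe_injective

theorem conjP_pow_eq_one (N : GLn) {k : ℕ} {c : F} (hc : (N : Mat) ^ k = algebraMap F Mat c) :
    (conjP N : MulAut PSLn) ^ k = 1 := by
  have hc0 : c ≠ 0 := by
    rintro rfl
    rw [map_zero, ← Units.val_pow_eq_pow_val] at hc
    exact (N ^ k).ne_zero hc
  rw [← map_pow, show N ^ k = Matrix.GeneralLinearGroup.scalar (Fin (m + 1)) (Units.mk0 c hc0) from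
    Units.ext (by rw [Units.val_pow_eq_pow_val, hc]; rfl), conjP_scalar]

theorem natDegree_minpoly_le (N : Mat) : (minpoly F N).natDegree ≤ m + 1 := by
  refine (natDegree_le_of_dvd (Matrix.minpoly_dvd_charpoly N) N.charpoly_monic.ne_zero).trans ?_
  rw [Matrix.charpoly_natDegree_eq_dim, Fintype.card_fin]

theorem mapMatrix_aeval (σ : F ≃+* F) (N : Mat) (p : F[X]) :
    (aeval N p).map σ = aeval (N.map σ) (p.map σ.toRingHom) := by
  induction p using Polynomial.induction_on' with
  | add a b ha hb => rw [map_add, Polynomial.map_add, map_add, Matrix.map_add σ (fun x y => map_add σ x y), ha, hb]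
  | monomial k a =>
    rw [Polynomial.map_monomial, aeval_monomial, aeval_monomial,
      show (algebraMap F Mat a * N ^ k).map σ =
        σ.toRingHom.mapMatrix (algebraMap F Mat a * N ^ k) from rfl, map_mul, map_pow]
    congr 1
    ext i j
    rcases eq_or_ne i j with rfl | h <;> simp [Matrix.algebraMap_matrix_apply, *]

/-- A similarity between `N` and `σ N` puts the minimal polynomial over the fixed field. -/
theorem minpoly_map_eq (σ : F ≃+* F) (g N : GLn) (h : g * FieldExt.glMap σ N = N * g) :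
    (minpoly F (N : Mat)).map σ.toRingHom = minpoly F (N : Mat) := by
  set μ := minpoly F (N : Mat) with hμ
  have hint : IsIntegral F (N : Mat) := IsIntegral.of_finite F _
  have e1 : aeval ((N : Mat).map σ) (μ.map σ.toRingHom) = 0 := by
    rw [← mapMatrix_aeval, hμ, minpoly.aeval, Matrix.map_zero σ (map_zero σ)]
  have e2 : (N : Mat).map σ = ((g⁻¹ : GLn) : Mat) * N * g := by
    rw [← FieldExt.glMap_val, show FieldExt.glMap σ N = g⁻¹ * N * g by rw [mul_assoc, ← h, inv_mul_cancel_left]]
    rfl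
  have hconj : ∀ p : F[X], aeval (((g⁻¹ : GLn) : Mat) * N * g) p = ((g⁻¹ : GLn) : Mat) * aeval (N : Mat) p * g := by
    intro p
    have hpow : ∀ k : ℕ, (((g⁻¹ : GLn) : Mat) * N * g) ^ k = ((g⁻¹ : GLn) : Mat) * (N : Mat) ^ k * g := fun k => by
      induction k with
      | zero => simp
      | succ k ih =>
        rw [pow_succ, pow_succ, ih]
        simp [mul_assoc]
    induction p using Polynomial.induction_on' with
    | add a b ha hb => rw [map_add, map_add, ha, hb, mul_add, add_mul]
    | monomial k a =>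
      rw [aeval_monomial, aeval_monomial, hpow, ← mul_assoc, ← mul_assoc, Algebra.commutes, mul_assoc _ _ ((N : Mat) ^ k)]
  rw [e2, hconj] at e1
  have e3 : aeval (N : Mat) (μ.map σ.toRingHom) = 0 := by
    have := congrArg (fun X => (g : Mat) * X * ((g⁻¹ : GLn) : Mat)) e1
    simpa [mul_assoc] using this
  refine Polynomial.eq_of_monic_of_associated ((minpoly.monic hint).map _) (minpoly.monic hint)
    (associated_of_dvd_of_natDegree_le (minpoly.dvd F _ e3) ((minpoly.monic hint).map _).ne_zero ?_).symm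
  rw [natDegree_map]

/-- The fixed field of `σ`. -/
theorem exists_fixed_card (σ : F ≃+* F) :
    ∃ (K : Subfield F), (∀ x : F, x ∈ K ↔ σ x = x) ∧ Fintype.card F = Nat.card K ^ orderOf σ := by
  classical
  have : Fintype (Subgroup.zpowers σ) := Fintype.ofFinite _
  refine ⟨FixedPoints.subfield (Subgroup.zpowers σ) F, fun x => ⟨fun h => h ⟨σ, Subgroup.mem_zpowers σ⟩,
    fun h => ?_⟩, ?_⟩
  · rintro ⟨_, k, rfl⟩
    show (σ ^ k) x = x
    exact MulAction.mem_stabilizer_iff.1 (Subgroup.zpow_mem _ (MulAction.mem_stabilizer_iff.2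
      (show σ • x = x from h)) k)
  · rw [← Nat.card_zpowers, Nat.card_eq_fintype_card (α := Subgroup.zpowers σ),
      ← FixedPoints.finrank_eq_card (Subgroup.zpowers σ) F, ← Module.natCard_eq_pow_finrank,
      Nat.card_eq_fintype_card]

/-- A twisted norm has a scalar power over the fixed field. -/
theorem field_case (σ : F ≃+* F) (g : GLn) :
    ∃ r k : ℕ, 2 ≤ r ∧ Fintype.card F = r ^ orderOf σ ∧ 0 < k ∧ k ≤ geom r (m + 1) ∧
      (conjP g * fieldP σ : MulAut PSLn) ^ (orderOf σ * k) = 1 := by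
  classical
  obtain ⟨K, hK, hcard⟩ := exists_fixed_card σ
  set e := orderOf σ with he
  set N := FieldExt.twistNorm σ g e with hN
  have hrel : g * FieldExt.glMap σ N = N * g := by
    have h1 : FieldExt.twistNorm σ g 1 = g := by
      rw [FieldExt.twistNorm_succ, FieldExt.twistNorm_zero, map_one, mul_one]
    have h2 := FieldExt.twistNorm_add σ g e 1
    rw [h1, FieldExt.twistNorm_succ, he, pow_orderOf_eq_one, FieldExt.glMap_one] at h2
    exact h2
  have hμ := minpoly_map_eq σ g N hrel
  have hint : IsIntegral F (N : Mat) := IsIntegral.of_finite F _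
  have hlift : minpoly F (N : Mat) ∈ Polynomial.lifts (algebraMap K F) := by
    rw [Polynomial.lifts_iff_coeff_lifts]
    intro j
    refine ⟨⟨_, (hK _).2 ?_⟩, rfl⟩
    have := congrArg (fun p => coeff p j) hμ
    rw [coeff_map] at this
    exact this
  obtain ⟨μ, hμmap, hμdeg, hμm⟩ := Polynomial.lifts_and_natDegree_eq_and_monic hlift (minpoly.monic hint)
  have h0 : aeval (N : Mat) μ = 0 := by
    rw [← aeval_map_algebraMap F (N : Mat) μ, hμmap, minpoly.aeval]
  have : Fintype K := Fintype.ofFinite _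
  obtain ⟨k, hk, ⟨c, hc⟩, hle⟩ := exists_pow_scalar_le (K := K) (M := Mat) (N := N) hμm h0
    (hμdeg ▸ natDegree_minpoly_le (N : Mat))
  have hr : 2 ≤ Nat.card K := Finite.one_lt_card
  refine ⟨Nat.card K, k, hr, hcard, hk, le_geom hr (by rwa [Nat.card_eq_fintype_card]), ?_⟩
  rw [pow_mul, conjP_mul_fieldP_pow, ← hN, he, pow_orderOf_eq_one, fieldP_one, mul_one]
  exact conjP_pow_eq_one N (c := (c : F)) (by rw [hc]; rfl)

theorem graph_sq (σ : F ≃+* F) (g : GLn) :
    (conjP g * fieldP σ * invP : MulAut PSLn) ^ 2 =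
      conjP (g * FieldExt.glMap σ (glIT g)) * fieldP (σ ^ 2) := by
  have hσ : (fieldP (σ ^ 2) : MulAut PSLn) = fieldP σ * fieldP σ := by rw [← fieldP_pow, pow_two]
  rw [pow_two, map_mul conjP, hσ]
  calc conjP g * fieldP σ * invP * (conjP g * fieldP σ * invP)
      = conjP g * (fieldP σ * (invP * conjP g)) * fieldP σ * invP := by simp only [mul_assoc]
    _ = conjP g * (fieldP σ * (conjP (glIT g) * invP)) * fieldP σ * invP := by rw [invP_mul_conjP]
    _ = conjP g * (fieldP σ * conjP (glIT g)) * ((invP * fieldP σ) * invP) := by simp only [mul_assoc]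
    _ = _ := by
      rw [fieldP_mul_conjP, invP_mul_fieldP, mul_assoc (fieldP σ), invP_mul_self, mul_one]
      simp only [mul_assoc]

/-- For an involutory (or trivial) field part the square has at most half the possible order. -/
theorem graph_case (hm : 2 ≤ m) (hex : ¬ (m = 2 ∧ Fintype.card F = 2)) (σ : F ≃+* F) (hσ : σ ^ 2 = 1) (g : GLn) :
    ∃ k : ℕ, 0 < k ∧ 2 * k ≤ geom (Fintype.card F) (m + 1) ∧
      (conjP g * fieldP σ * invP : MulAut PSLn) ^ (2 * k) = 1 := by
  classical
  have hσσ : ∀ x, σ (σ x) = x := fun x => by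
    have := RingEquiv.congr_fun hσ x
    rwa [pow_two] at this
  set N := g * FieldExt.glMap σ (glIT g) with hN
  suffices H : ∃ k : ℕ, 0 < k ∧ 2 * k ≤ geom (Fintype.card F) (m + 1) ∧
      ∃ c : F, (N : Mat) ^ k = algebraMap F Mat c by
    obtain ⟨k, hk, hle, c, hc⟩ := H
    refine ⟨k, hk, hle, ?_⟩
    rw [pow_mul, graph_sq, hσ, fieldP_one, mul_one, ← hN]
    exact conjP_pow_eq_one N hc
  have hq : 2 ≤ Fintype.card F := Fintype.one_lt_card
  have hint : IsIntegral F (N : Mat) := IsIntegral.of_finite F _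
  set μ := minpoly F (N : Mat) with hμ
  have hμm : μ.Monic := minpoly.monic hint
  have h0 : aeval (N : Mat) μ = 0 := minpoly.aeval _ _
  rcases Nat.lt_or_ge μ.natDegree (m + 1) with hdeg | hdeg
  · obtain ⟨k, hk, hc, hle⟩ := exists_pow_scalar_le (N := N) hμm h0 (Nat.le_of_lt_succ hdeg)
    refine ⟨k, hk, ?_, hc⟩
    have h1 := le_geom hq hle
    have h3 : 1 ≤ Fintype.card F := by omega
    have h4 : 2 * geom (Fintype.card F) m ≤ Fintype.card F * geom (Fintype.card F) m := Nat.mul_le_mul_right _ hq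
    show 2 * k ≤ Fintype.card F * geom (Fintype.card F) m + 1
    omega
  have hdeg' : μ.natDegree = m + 1 := le_antisymm (natDegree_minpoly_le _) hdeg
  by_cases hc : ∀ a : F, a ≠ 0 → μ.IsRoot a
  · obtain ⟨hqd, hP⟩ := card_polyUnits_roots (K := F) (M := Mat) (N := (N : Mat)) hμ hc
    obtain ⟨k, hk, ⟨c, hkc⟩, hle⟩ :=
      exists_pow_scalar (self_mem_polyUnits (K := F) N) (scalar_mem_polyUnits _)
    replace hle := hle.trans hP
    rw [hdeg'] at hle hqd
    rcases Nat.lt_or_ge (Fintype.card F) 3 with hq2 | hq3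
    · -- two elements
      have hq2 : Fintype.card F = 2 := by omega
      rw [hq2] at hle ⊢
      simp only [show 2 - 1 = 1 from rfl, one_mul, one_pow, Nat.add_sub_cancel] at hle
      have hg : geom 2 (m + 1) + 1 = 2 * 2 ^ m := by
        have := geom_spec (q := 2) (by norm_num) (m + 1)
        rw [pow_succ'] at this
        omega
      rcases Nat.lt_or_ge k (2 ^ m) with hk' | hk'
      · exact ⟨k, hk, by omega, c, hkc⟩
      have hkeq : k = 2 ^ m := by omega
      have hc1 : c = 1 := by
        have hc0 : c ≠ 0 := by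
          rintro rfl
          rw [map_zero, ← Units.val_pow_eq_pow_val] at hkc
          exact (N ^ k).ne_zero hkc
        have := FiniteField.pow_card_sub_one_eq_one c hc0
        rwa [hq2, pow_one] at this
      have hchar : CharP F 2 := by
        obtain ⟨p, hp⟩ := CharP.exists F
        obtain ⟨n, hpp, hn⟩ := FiniteField.card F p
        have : p ∣ 2 := by rw [← hq2, hn]; exact dvd_pow_self p n.pos.ne'
        rwa [(Nat.prime_dvd_prime_iff_eq hpp Nat.prime_two).1 this] at hp
      have : Fact (Nat.Prime 2) := ⟨Nat.prime_two⟩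
      have hnil : ((N : Mat) - 1) ^ 2 ^ m = 0 := by
        rw [sub_pow_char_pow_of_commute (R := Mat) 2 _ (Commute.one_right _), one_pow, ← hkeq, hkc, hc1,
          map_one, sub_self]
      have hdvd : μ ∣ (X - C (1 : F)) ^ 2 ^ m := minpoly.dvd F _ (by simpa using hnil)
      obtain ⟨j, -, hj⟩ := (dvd_prime_pow (prime_X_sub_C (1 : F)) _).1 hdvd
      have hμj : μ = (X - C (1 : F)) ^ j :=
        eq_of_monic_of_associated hμm ((monic_X_sub_C _).pow j) hj
      have hjd : j = m + 1 := by rw [← hdeg', hμj, natDegree_pow, natDegree_X_sub_C, mul_one]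
      have hsmall : m + 1 ≤ 2 ^ (m - 1) := by
        have hgen : ∀ t, t + 4 ≤ 2 ^ (t + 2) := fun t => by
          induction t with
          | zero => norm_num
          | succ t ih => rw [show t + 1 + 2 = (t + 2) + 1 by omega, pow_succ]; omega
        have hm3 : 3 ≤ m := by omega
        have := hgen (m - 3)
        rw [show m - 3 + 2 = m - 1 by omega] at this
        omega
      refine ⟨2 ^ (m - 1), Nat.two_pow_pos _, ?_, 1, ?_⟩
      · have : 2 * 2 ^ (m - 1) = 2 ^ m := by rw [← pow_succ']; congr 1; omega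
        have := Nat.one_le_two_pow (n := m)
        omega
      · have h1 : ((N : Mat) - 1) ^ 2 ^ (m - 1) = 0 := by
          rw [hμj, hjd, map_pow, map_sub, aeval_X, aeval_C, map_one] at h0
          exact pow_eq_zero_of_le hsmall h0
        rw [sub_pow_char_pow_of_commute (R := Mat) 2 _ (Commute.one_right _), one_pow, sub_eq_zero] at h1
        rw [h1, map_one]
    · -- few units
      refine ⟨k, hk, ?_, c, hkc⟩
      refine le_geom hq ?_
      obtain ⟨a, ha⟩ : ∃ a, Fintype.card F = a + 1 := ⟨Fintype.card F - 1, by omega⟩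
      rw [ha, Nat.add_sub_cancel] at hle hqd ⊢
      have hlt := two_mul_pow_lt (a := a) (by omega)
      have hsplit : (a + 1) ^ (m + 1) = (a + 1) ^ a * (a + 1) ^ (m + 1 - a) := by
        rw [← pow_add]; congr 1; omega
      have h2 : 2 * (a * k) < (a + 1) ^ (m + 1) := by
        rw [hsplit]
        refine lt_of_le_of_lt (Nat.mul_le_mul_left 2 hle) ?_
        rw [← mul_assoc]
        exact Nat.mul_lt_mul_of_pos_right hlt (pow_pos (by omega) _)
      rw [mul_left_comm]
      omega
  -- a proper subgroup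
  push Not at hc
  obtain ⟨a, ha0, ha⟩ := hc
  let ι : Mat → Mat := fun Y => (g : Mat) * (Y.map σ).transpose * ((g⁻¹ : GLn) : Mat)
  have hmap : ∀ A B : Mat, (A * B).map σ = A.map σ * B.map σ := fun A B => Matrix.map_mul
  have hιmul : ∀ A B, ι (A * B) = ι B * ι A := fun A B => by
    simp only [ι, hmap, Matrix.transpose_mul, mul_assoc, Units.inv_mul_cancel_left]
  have hιs : ∀ x : F, ι (algebraMap F Mat x) = algebraMap F Mat (σ x) := fun x => by
    have e : ((algebraMap F Mat x).map σ).transpose = algebraMap F Mat (σ x) := by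
      ext i j
      rcases eq_or_ne i j with rfl | h <;> simp [Matrix.algebraMap_matrix_apply, *, Ne.symm]
    simp only [ι, e]
    rw [← Algebra.commutes, mul_assoc, Units.mul_inv, mul_one]
  have hιadd : ∀ A B, ι (A + B) = ι A + ι B := fun A B => by
    simp only [ι, Matrix.map_add σ (fun x y => map_add σ x y), Matrix.transpose_add, mul_add, add_mul]
  have hNι : (N : Mat) * ι N = 1 := by
    have e1 : (N : Mat) = (g : Mat) * ((g⁻¹ : GLn) : Mat).transpose.map σ := rfl
    have e2 : ι N = (g : Mat).transpose.map σ * ((g⁻¹ : GLn) : Mat) := by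
      have hh : (((g⁻¹ : GLn) : Mat).transpose.map σ).map σ = ((g⁻¹ : GLn) : Mat).transpose := by
        ext i j; simp [hσσ]
      simp only [ι]
      rw [e1, hmap, hh, Matrix.transpose_mul, Matrix.transpose_transpose, ← Matrix.transpose_map,
        ← mul_assoc, Units.mul_inv, one_mul]
    rw [e2, e1, mul_assoc, ← mul_assoc (((g⁻¹ : GLn) : Mat).transpose.map σ), ← hmap, ← Matrix.transpose_mul,
      Units.mul_inv, Matrix.transpose_one, Matrix.map_one σ (map_zero σ) (map_one σ), one_mul, Units.mul_inv]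
  have hιN : ι N = ((N⁻¹ : GLn) : Mat) := by
    rw [← one_mul (ι N), ← Units.inv_mul N, mul_assoc, hNι, mul_one]
  let V : Subgroup GLn := closedSubgroup (fun u => ∃ s : F, (u : Mat) * ι u = algebraMap F Mat s)
    ⟨1, by
      have := hιs 1
      simp only [map_one] at this
      simp [this]⟩
    fun {u v} ⟨s, hs⟩ ⟨t, ht⟩ => ⟨t * s, by
      rw [Units.val_mul, hιmul, mul_assoc, ← mul_assoc (v : Mat), ht, Algebra.commutes, ← mul_assoc, hs,
        ← map_mul, mul_comm]⟩
  have hVN : N ∈ V := ⟨1, by rw [hNι, map_one]⟩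
  have hVs : (Units.map (algebraMap F Mat : F →* Mat)).range ≤ V := by
    rintro _ ⟨s, rfl⟩
    exact ⟨(s : F) * σ s, by simp [hιs, map_mul]⟩
  have hone : ∀ x : F, aeval (N : Mat) (X - C x) = (N : Mat) - algebraMap F Mat x := fun x => by simp
  have hunit : IsUnit ((N : Mat) - algebraMap F Mat a) := by
    obtain ⟨p, r, hpr⟩ := (irreducible_X_sub_C a).coprime_iff_not_dvd.2 (mt dvd_iff_isRoot.1 ha)
    have := congrArg (aeval (N : Mat)) hpr
    rw [map_add, map_mul, map_mul, hone, h0, mul_zero, add_zero, map_one] at this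
    exact ⟨⟨_, _, mul_eq_one_comm.1 this, this⟩, rfl⟩
  obtain ⟨u, hu⟩ := hunit
  have huP : u ∈ polyUnits F (N : Mat) := ⟨X - C a, by rw [hone, hu]⟩
  have huV : u ∉ V := by
    rintro ⟨s, hs⟩
    have hneg : (N : Mat) - algebraMap F Mat a = N + algebraMap F Mat (-a) := by rw [map_neg, sub_eq_add_neg]
    rw [hu, hneg, hιadd, hιs, hιN] at hs
    have h2 := congrArg (· * (N : Mat)) hs
    simp only [add_mul, mul_add, mul_assoc, Units.inv_mul, mul_one, map_neg, neg_mul, mul_neg, neg_neg] at h2
    let P : F[X] := C (σ (-a)) * X ^ 2 + C (1 + (-a) * σ (-a) - s) * X + C (-a)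
    have hP : aeval (N : Mat) P = 0 := by
      simp only [P, map_add, map_mul, aeval_C, aeval_X, map_pow, pow_two, Algebra.algebraMap_eq_smul_one,
        smul_mul_assoc, mul_smul_comm, one_mul, mul_one, smul_smul] at h2 ⊢
      rw [← sub_eq_zero] at h2
      refine Eq.trans ?_ h2
      simp only [map_neg]
      module
    have hP0 : P ≠ 0 := fun e => ha0 (by
      have := congrArg (fun p => coeff p 0) e
      simpa [P] using this)
    have h3 := natDegree_le_of_dvd (minpoly.dvd F _ hP) hP0
    rw [← hμ] at h3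
    have h4 : P.natDegree ≤ 2 := by simp only [P]; compute_degree
    omega
  set U := polyUnits F (N : Mat) ⊓ V
  obtain ⟨k, hk, hkc, hle⟩ := exists_pow_scalar (K := F) (U := U) (N := N)
    ⟨self_mem_polyUnits N, hVN⟩ (le_inf (scalar_mem_polyUnits _) hVs)
  refine ⟨k, hk, le_geom hq ?_, hkc⟩
  have hle' : U ≤ polyUnits F (N : Mat) := inf_le_left
  obtain ⟨t, ht⟩ := Subgroup.card_dvd_of_le hle'
  have ht2 : 2 ≤ t := by
    rcases t with _ | _ | t
    · simp at ht
    · simp only [zero_add, mul_one] at ht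
      exact absurd ((Subgroup.eq_of_le_of_card_ge hle' ht.le) ▸ huP : u ∈ U).2 huV
    · omega
  have h5 := card_polyUnits_le hμm h0
  rw [hdeg', ht] at h5
  calc (Fintype.card F - 1) * (2 * k) = 2 * ((Fintype.card F - 1) * k) := by ring
    _ ≤ t * Nat.card U := Nat.mul_le_mul ht2 hle
    _ ≤ _ := by rw [mul_comm]; exact h5

/-- For `d = 2` inverse-transpose is inner. -/
theorem invP_eq_conjP :
    ∃ J : GL (Fin 2) F, (invP : MulAut (Matrix.ProjectiveSpecialLinearGroup (Fin 2) F)) = conjP J := by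
  refine ⟨Matrix.GeneralLinearGroup.mkOfDetNeZero !![0, 1; -1, 0] (by simp [Matrix.det_fin_two]),
    MulEquiv.ext fun x => ?_⟩
  induction x using QuotientGroup.induction_on with
  | _ s =>
    rw [invP_mk, conjP_mk]
    refine congrArg QuotientGroup.mk (Subtype.ext ?_)
    rw [invT_coe, Matrix.SpecialLinearGroup.coe_inv, Matrix.adjugate_fin_two, conjSL_coe, Matrix.coe_units_inv]
    simp only [Matrix.GeneralLinearGroup.mkOfDetNeZero, Matrix.GeneralLinearGroup.val_mk']
    rw [Matrix.inv_def, Matrix.adjugate_fin_two]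
    ext i j
    fin_cases i <;> fin_cases j <;>
      simp [Matrix.det_fin_two, Matrix.mul_apply, Fin.sum_univ_two, Matrix.vecMul, dotProduct]

theorem order_le (hm : 1 ≤ m) (h24 : ¬ (m = 1 ∧ Fintype.card F = 4)) (h32 : ¬ (m = 2 ∧ Fintype.card F = 2))
    (φ : MulAut PSLn) : orderOf φ ≤ geom (Fintype.card F) (m + 1) := by
  obtain ⟨g, σ, γ, hγ, rfl⟩ := exists_decomposition hm φ
  have hfield : ∀ (g : GLn) (σ : F ≃+* F),
      orderOf (conjP g * fieldP σ : MulAut PSLn) ≤ geom (Fintype.card F) (m + 1) := by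
    intro g σ
    obtain ⟨r, k, hr, hcard, hk, hle, h1⟩ := field_case σ g
    refine (orderOf_le_of_pow_eq_one (Nat.mul_pos (orderOf_pos σ) hk) h1).trans ?_
    rw [hcard]
    refine (Nat.mul_le_mul_left _ hle).trans (geom_field hr (orderOf_pos σ) (by omega) ?_)
    rintro ⟨hd, h2, he⟩
    exact h24 ⟨by omega, by rw [hcard, h2, he]; norm_num⟩
  rcases hγ with rfl | rfl
  · rw [mul_one]; exact hfield g σ
  rcases Nat.lt_or_ge m 2 with hm1 | hm2
  · obtain rfl : m = 1 := by omega
    obtain ⟨J, hJ⟩ := invP_eq_conjP (F := F)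
    rw [hJ, mul_assoc, fieldP_mul_conjP, ← mul_assoc, ← map_mul]
    exact hfield _ σ
  by_cases hσ : σ ^ 2 = 1
  · obtain ⟨k, hk, hle, h1⟩ := graph_case hm2 h32 σ hσ g
    exact (orderOf_le_of_pow_eq_one (by omega) h1).trans hle
  obtain ⟨r, k, hr, hcard, hk, hle, h1⟩ := field_case (σ ^ 2) (g * FieldExt.glMap σ (glIT g))
  rw [← graph_sq, ← pow_mul] at h1
  set e := orderOf (σ ^ 2) with he
  have hepos : 0 < e := orderOf_pos _
  have he2 : 2 ≤ e := by
    by_contra h
    exact hσ (orderOf_eq_one_iff.1 (by omega : e = 1))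
  refine (orderOf_le_of_pow_eq_one (Nat.mul_pos two_pos (Nat.mul_pos hepos hk)) h1).trans ?_
  rw [hcard]
  refine le_trans (le_trans (le_of_eq (mul_assoc _ _ _).symm) (Nat.mul_le_mul_left _ hle))
    (geom_graph_field hr he2 (by omega) fun he' => ?_)
  -- `σ` has order four, so its fixed field is not the prime one of two elements
  by_contra hr3
  obtain rfl : r = 2 := by omega
  obtain ⟨K, -, hK⟩ := exists_fixed_card σ
  have hK2 : 2 ≤ Nat.card K := Finite.one_lt_card
  have h4 : 2 ^ orderOf σ ≤ 4 := by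
    rw [he', show (2 : ℕ) ^ 2 = 4 from rfl] at hcard
    rw [← hcard, hK]
    exact Nat.pow_le_pow_left hK2 _
  have hle2 : orderOf σ ≤ 2 := (Nat.pow_le_pow_iff_right (le_refl 2)).1 h4
  have hpos := orderOf_pos σ
  have : σ ^ 2 = 1 := orderOf_dvd_iff_pow_eq_one.1 (by
    rcases (show orderOf σ = 1 ∨ orderOf σ = 2 by omega) with h | h <;> simp [h])
  exact hσ this

theorem order_attained (hm : 1 ≤ m) : ∃ φ : MulAut PSLn,
    Fintype.card F ^ (m + 1) - 1 ≤ (Fintype.card F - 1) * orderOf φ := by
  obtain ⟨A, hA⟩ := GL.exists_orderOf_card_pow_sub_one (F := F) (d := m + 1) (n := m + 1) (by omega) le_rfl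
  refine ⟨conjP A, ?_⟩
  have h := pow_orderOf_eq_one (conjP A : MulAut PSLn)
  rw [← map_pow, conjP_eq_one_iff hm] at h
  obtain ⟨c, hc⟩ := h
  rw [← hA]
  refine orderOf_le_of_pow_eq_one (Nat.mul_pos (Nat.sub_pos_of_lt Fintype.one_lt_card) (orderOf_pos _)) ?_
  rw [mul_comm, pow_mul, hc, ← map_pow]
  have : c ^ (Fintype.card F - 1) = 1 := by
    refine Units.ext ?_
    rw [Units.val_pow_eq_pow_val, Units.val_one]
    exact FiniteField.pow_card_sub_one_eq_one (c : F) c.ne_zero
  rw [this, map_one]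

end Cfsg.Agent.AutPSLOrder
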